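-- Team project CHO (S1082): engine for the packages [EQUIV-D4-r] (helper3).
-- Conjugation by `E_r(t) = 1 + t N_r` on the model Lie algebra is compared with the sparse
-- columns `colX` of `xMat` (helper18), coefficientwise in `t`, by integer table checks.
import Mathlib
import Cfsg.Agent.Lib.Helper99.CHO.Defs
import Cfsg.Agent.Lib.Helper18.ChevSym

set_option autoImplicit false
open Matrix

namespace Cfsg.Agent.Lib.Helper3.CHO

open Cfsg Cfsg.Lie Cfsg.Agent.Lib.Helper99.CHO Cfsg.Agent.Lib.Helper18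

universe u

/-- Integer entries of the model basis of type D4, by code (`< 4`: Cartan, `4 + r`: root `r`). -/
def bZD4 (n a c : ℕ) : ℤ :=
  if n < 4 then tab3 hListD4 n a c else if n < 28 then tab3 nListD4 (n - 4) a c else 0

/-- Coefficient of `t ^ k` of the entry `(a, c)` of the combination given by a sparse column. -/
def szD4 (L : List (ℕ × ℤ × ℤ)) (k : ℤ) (a c : ℕ) : ℤ :=
  (L.map (fun e => if e.2.2 = k then e.2.1 * bZD4 e.1 a c else 0)).sum

/-- Sum of eight values. -/
def sum8Z (f : ℕ → ℤ) : ℤ := f 0 + f 1 + f 2 + f 3 + f 4 + f 5 + f 6 + f 7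

/-- The integer check for the root `r` and the column with code `col`. -/
def chkD4 (r col : ℕ) : Bool :=
  (colX chevD4 r 1 1 col).all (fun e => e.2.2 == 0 || e.2.2 == 1 || e.2.2 == 2) &&
  (List.range 8).all (fun a => (List.range 8).all (fun c =>
    decide (bZD4 col a c = szD4 (colX chevD4 r 1 1 col) 0 a c) &&
    decide (sum8Z (fun k => tab3 nListD4 r a k * bZD4 col k c) =
      szD4 (colX chevD4 r 1 1 col) 1 a c +
        sum8Z (fun k => szD4 (colX chevD4 r 1 1 col) 0 a k * tab3 nListD4 r k c)) &&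
    decide (0 = szD4 (colX chevD4 r 1 1 col) 2 a c +
        sum8Z (fun k => szD4 (colX chevD4 r 1 1 col) 1 a k * tab3 nListD4 r k c)) &&
    decide (0 = sum8Z (fun k => szD4 (colX chevD4 r 1 1 col) 2 a k * tab3 nListD4 r k c))))

/-- The integer check for the root `r`. -/
def chkAllD4 (r : ℕ) : Bool := (List.range 28).all (chkD4 r)

section
variable (K : Type u) [Field K]

/-- The model basis over `K`, by code. -/
def bND4 (n : ℕ) : Matrix (Fin 4 ⊕ Fin 4) (Fin 4 ⊕ Fin 4) K :=
  Matrix.of fun a c => ((bZD4 n (ix8 a) (ix8 c) : ℤ) : K)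

theorem bD4_eq_bND4 (J : chevD4.Idx) : bD4 K J = bND4 K (enc chevD4 J) := by
  rcases J with i | s
  · have hi : i.val < 4 := i.isLt
    have henc : enc chevD4 (Sum.inl i) = i.val := rfl
    rw [henc]
    ext a c
    simp only [bD4, bND4, HD4, bZD4, Matrix.of_apply]
    rw [if_pos hi]
  · have hs : s.val < 24 := s.isLt
    have h1 : ¬ (4 + s.val < 4) := by omega
    have h2 : 4 + s.val < 28 := by omega
    have h3 : 4 + s.val - 4 = s.val := by omega
    have henc : enc chevD4 (Sum.inr s) = 4 + s.val := rfl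
    rw [henc]
    ext a c
    simp only [bD4, bND4, ND4, bZD4, Matrix.of_apply]
    rw [if_neg h1, if_pos h2, h3]

theorem ND4_eq_bND4 (r : ℕ) (hr : r < 24) : ND4 K r = bND4 K (4 + r) := by
  have h1 : ¬ (4 + r < 4) := by omega
  have h2 : 4 + r < 28 := by omega
  have h3 : 4 + r - 4 = r := by omega
  ext a c
  simp only [bND4, ND4, bZD4, Matrix.of_apply, if_neg h1, if_pos h2, h3]

theorem bND4_of_ge (u : ℕ) (hu : ¬ u < 28) : bND4 K u = 0 := by
  have h4 : ¬ u < 4 := by omega
  ext a c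
  simp only [bND4, bZD4, Matrix.of_apply, if_neg h4, if_neg hu, Int.cast_zero, Matrix.zero_apply]

theorem swap_single_D4 (u : ℕ) (x : K) :
    ∑ J : chevD4.Idx, (if u = enc chevD4 J then x else 0) • bD4 K J = x • bND4 K u := by
  by_cases hu : u < 28
  · have hex : ∃ J0 : chevD4.Idx, enc chevD4 J0 = u := by
      by_cases h4 : u < 4
      · exact ⟨Sum.inl ⟨u, h4⟩, rfl⟩
      · refine ⟨Sum.inr ⟨u - 4, ?_⟩, ?_⟩
        · show u - 4 < 24
          omega
        · show 4 + (u - 4) = u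
          omega
    obtain ⟨J0, hJ0⟩ := hex
    rw [Finset.sum_eq_single J0]
    · rw [if_pos hJ0.symm, bD4_eq_bND4, hJ0]
    · intro J _ hJ
      rw [if_neg, zero_smul]
      intro h
      apply hJ
      exact enc_injective chevD4 (by rw [hJ0]; exact h.symm)
    · intro h
      exact absurd (Finset.mem_univ _) h
  · rw [bND4_of_ge K u hu, smul_zero]
    apply Finset.sum_eq_zero
    intro J _
    rw [if_neg, zero_smul]
    intro h
    have h1 := enc_lt chevD4 J
    have h28 : chevD4.rank + chevD4.nroots = 28 := rfl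
    omega

theorem swap_D4 (t : K) (L : List (ℕ × ℤ × ℤ)) :
    ∑ J : chevD4.Idx, sem chevD4 t L J • bD4 K J =
      (L.map (fun e => ((e.2.1 : K) * t ^ e.2.2) • bND4 K e.1)).sum := by
  induction L with
  | nil => simp [sem_nil_apply]
  | cons e L ih =>
    obtain ⟨u, a, e'⟩ := e
    simp only [sem_cons_apply, add_smul, Finset.sum_add_distrib, List.map_cons, List.sum_cons, ih,
      swap_single_D4]

theorem entry_D4 (t : K) (L : List (ℕ × ℤ × ℤ))
    (hL : ∀ e ∈ L, e.2.2 = 0 ∨ e.2.2 = 1 ∨ e.2.2 = 2) (a c : Fin 4 ⊕ Fin 4) :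
    (L.map (fun e => ((e.2.1 : K) * t ^ e.2.2) • bND4 K e.1)).sum a c =
      (szD4 L 0 (ix8 a) (ix8 c) : K) + t * (szD4 L 1 (ix8 a) (ix8 c) : K) +
        t ^ 2 * (szD4 L 2 (ix8 a) (ix8 c) : K) := by
  induction L with
  | nil => simp [szD4]
  | cons e L ih =>
    obtain ⟨u, z, e'⟩ := e
    have ih' := ih (fun e he => hL e (List.mem_cons_of_mem _ he))
    have he' : e' = 0 ∨ e' = 1 ∨ e' = 2 := hL (u, z, e') List.mem_cons_self
    have hhead : (((z : K) * t ^ e') • bND4 K u) a c =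
        (z : K) * t ^ e' * ((bZD4 u (ix8 a) (ix8 c) : ℤ) : K) := by
      simp only [Matrix.smul_apply, bND4, Matrix.of_apply, smul_eq_mul]
    have hs : ∀ k : ℤ, szD4 ((u, z, e') :: L) k (ix8 a) (ix8 c) =
        (if e' = k then z * bZD4 u (ix8 a) (ix8 c) else 0) + szD4 L k (ix8 a) (ix8 c) := by
      intro k
      simp only [szD4, List.map_cons, List.sum_cons]
    rw [List.map_cons, List.sum_cons, Matrix.add_apply, ih', hhead, hs 0, hs 1, hs 2]
    rcases he' with h | h | h
    · subst h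
      simp only [if_true, zpow_zero]
      norm_num
      ring
    · subst h
      simp only [zpow_one]
      norm_num
      ring
    · subst h
      have h2 : t ^ (2 : ℤ) = t ^ 2 := by norm_cast
      rw [h2]
      norm_num
      ring

theorem sum_ix8 (f : ℕ → ℤ) :
    ∑ k : Fin 4 ⊕ Fin 4, ((f (ix8 k) : ℤ) : K) = ((sum8Z f : ℤ) : K) := by
  simp only [Fintype.sum_sum_type, Fin.sum_univ_four, sum8Z, ix8]
  push_cast
  simp only [Fin.val_zero, Fin.val_one, Fin.val_two]
  norm_num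
  ring

end

theorem ix8_lt (a : Fin 4 ⊕ Fin 4) : ix8 a < 8 := by
  rcases a with i | i
  · have := i.isLt
    show i.val < 8
    omega
  · have := i.isLt
    show 4 + i.val < 8
    omega

/-- [EQUIV-D4-r] from the integer check. -/
theorem pkgEquivD4At_of_chk (r : ℕ) (h : chkAllD4 r = true) : PkgEquivD4At.{u} r := by
  intro K _ hr t I
  have hr24 : r < 24 := hr
  have hcol : enc chevD4 I < 28 := enc_lt chevD4 I
  have hchk : chkD4 r (enc chevD4 I) = true := by
    unfold chkAllD4 at h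
    rw [List.all_eq_true] at h
    exact h _ (List.mem_range.mpr hcol)
  unfold chkD4 at hchk
  rw [Bool.and_eq_true] at hchk
  obtain ⟨hexp, hmain⟩ := hchk
  set L := colX chevD4 r 1 1 (enc chevD4 I) with hLdef
  have hL : ∀ e ∈ L, e.2.2 = 0 ∨ e.2.2 = 1 ∨ e.2.2 = 2 := by
    rw [List.all_eq_true] at hexp
    intro e he
    have := hexp e he
    simp only [Bool.or_eq_true, beq_iff_eq] at this
    rcases this with (h0 | h0) | h0
    · exact Or.inl h0
    · exact Or.inr (Or.inl h0)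
    · exact Or.inr (Or.inr h0)
  have hmain' : ∀ a c : ℕ, a < 8 → c < 8 →
      bZD4 (enc chevD4 I) a c = szD4 L 0 a c ∧
      sum8Z (fun k => tab3 nListD4 r a k * bZD4 (enc chevD4 I) k c) =
        szD4 L 1 a c + sum8Z (fun k => szD4 L 0 a k * tab3 nListD4 r k c) ∧
      0 = szD4 L 2 a c + sum8Z (fun k => szD4 L 1 a k * tab3 nListD4 r k c) ∧
      0 = sum8Z (fun k => szD4 L 2 a k * tab3 nListD4 r k c) := by
    intro a c ha hc
    rw [List.all_eq_true] at hmain
    have h1 := hmain a (List.mem_range.mpr ha)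
    rw [List.all_eq_true] at h1
    have h2 := h1 c (List.mem_range.mpr hc)
    simp only [Bool.and_eq_true, decide_eq_true_eq] at h2
    exact ⟨h2.1.1.1, h2.1.1.2, h2.1.2, h2.2⟩
  have ht : ((1 : ℤ) : K) * t ^ (1 : ℤ) = t := by simp
  have hx : ∀ J : chevD4.Idx, chevD4.xMat K ⟨r, hr⟩ t J I = sem chevD4 t L J := by
    intro J
    have := xMat_col (F := K) chevD4 t ⟨r, hr⟩ 1 1 J I
    rw [ht] at this
    exact this
  have hsum : (∑ J, chevD4.xMat K ⟨r, hr⟩ t J I • bD4 K J) =
      (L.map (fun e => ((e.2.1 : K) * t ^ e.2.2) • bND4 K e.1)).sum := by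
    rw [← swap_D4]
    apply Finset.sum_congr rfl
    intro J _
    rw [hx J]
  rw [hsum, bD4_eq_bND4]
  have hS := entry_D4 K t L hL
  generalize (L.map (fun e => ((e.2.1 : K) * t ^ e.2.2) • bND4 K e.1)).sum = S at hS
  unfold ED4mat
  ext a c
  have ha := ix8_lt a
  have hc := ix8_lt c
  obtain ⟨e0, e1, e2, e3⟩ := hmain' (ix8 a) (ix8 c) ha hc
  have hN : ∀ x y : Fin 4 ⊕ Fin 4, ND4 K r x y = ((tab3 nListD4 r (ix8 x) (ix8 y) : ℤ) : K) := by
    intro x y
    simp only [ND4, Matrix.of_apply]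
  have hB : ∀ x y : Fin 4 ⊕ Fin 4, bND4 K (enc chevD4 I) x y =
      ((bZD4 (enc chevD4 I) (ix8 x) (ix8 y) : ℤ) : K) := by
    intro x y
    simp only [bND4, Matrix.of_apply]
  have hl : ((1 + t • ND4 K r) * bND4 K (enc chevD4 I)) a c =
      ((bZD4 (enc chevD4 I) (ix8 a) (ix8 c) : ℤ) : K) +
        t * ((sum8Z (fun k => tab3 nListD4 r (ix8 a) k * bZD4 (enc chevD4 I) k (ix8 c)) : ℤ) : K) := by
    rw [Matrix.add_mul, Matrix.one_mul, Matrix.smul_mul, Matrix.add_apply, Matrix.smul_apply,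
      Matrix.mul_apply, hB, smul_eq_mul, ← sum_ix8]
    congr 2
    apply Finset.sum_congr rfl
    intro k _
    rw [hN, hB]
    push_cast
    ring
  have hSN : ∑ k, S a k * ND4 K r k c =
      ((sum8Z (fun k => szD4 L 0 (ix8 a) k * tab3 nListD4 r k (ix8 c)) : ℤ) : K) +
        t * ((sum8Z (fun k => szD4 L 1 (ix8 a) k * tab3 nListD4 r k (ix8 c)) : ℤ) : K) +
        t ^ 2 * ((sum8Z (fun k => szD4 L 2 (ix8 a) k * tab3 nListD4 r k (ix8 c)) : ℤ) : K) := by
    rw [← sum_ix8, ← sum_ix8, ← sum_ix8, Finset.mul_sum, Finset.mul_sum,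
      ← Finset.sum_add_distrib, ← Finset.sum_add_distrib]
    apply Finset.sum_congr rfl
    intro k _
    rw [hN, hS]
    push_cast
    ring
  have hr' : (S * (1 + t • ND4 K r)) a c =
      ((szD4 L 0 (ix8 a) (ix8 c) : K) + t * (szD4 L 1 (ix8 a) (ix8 c) : K) +
        t ^ 2 * (szD4 L 2 (ix8 a) (ix8 c) : K)) +
      t * (((sum8Z (fun k => szD4 L 0 (ix8 a) k * tab3 nListD4 r k (ix8 c)) : ℤ) : K) +
        t * ((sum8Z (fun k => szD4 L 1 (ix8 a) k * tab3 nListD4 r k (ix8 c)) : ℤ) : K) +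
        t ^ 2 * ((sum8Z (fun k => szD4 L 2 (ix8 a) k * tab3 nListD4 r k (ix8 c)) : ℤ) : K)) := by
    rw [Matrix.mul_add, Matrix.mul_one, Matrix.mul_smul, Matrix.add_apply, Matrix.smul_apply,
      Matrix.mul_apply, hS, smul_eq_mul, hSN]
  rw [hl, hr']
  have e0' := congrArg (Int.cast : ℤ → K) e0
  have e1' := congrArg (Int.cast : ℤ → K) e1
  have e2' := congrArg (Int.cast : ℤ → K) e2
  have e3' := congrArg (Int.cast : ℤ → K) e3
  push_cast at e0' e1' e2' e3'
  linear_combination e0' + t * e1' + t ^ 2 * e2' + t ^ 3 * e3'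

end Cfsg.Agent.Lib.Helper3.CHO
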