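-- Team project CHO (S1082): integer checks for [EQUIV-D4-r], r = 0..7 (helper3).
import Cfsg.Agent.Lib.Helper3.CHO.EquivEngine

set_option autoImplicit false

namespace Cfsg.Agent.Lib.Helper3.CHO

theorem chkAllD4_0 : chkAllD4 0 = true := by decide +kernel

theorem chkAllD4_1 : chkAllD4 1 = true := by decide +kernel

theorem chkAllD4_2 : chkAllD4 2 = true := by decide +kernel

theorem chkAllD4_3 : chkAllD4 3 = true := by decide +kernel

theorem chkAllD4_4 : chkAllD4 4 = true := by decide +kernel

theorem chkAllD4_5 : chkAllD4 5 = true := by decide +kernel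

theorem chkAllD4_6 : chkAllD4 6 = true := by decide +kernel

theorem chkAllD4_7 : chkAllD4 7 = true := by decide +kernel

end Cfsg.Agent.Lib.Helper3.CHO
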