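-- Team project CHO (S1082): integer checks for [EQUIV-D4-r], r = 8..15 (helper3).
import Cfsg.Agent.Lib.Helper3.CHO.EquivEngine

set_option autoImplicit false

namespace Cfsg.Agent.Lib.Helper3.CHO

theorem chkAllD4_8 : chkAllD4 8 = true := by decide +kernel

theorem chkAllD4_9 : chkAllD4 9 = true := by decide +kernel

theorem chkAllD4_10 : chkAllD4 10 = true := by decide +kernel

theorem chkAllD4_11 : chkAllD4 11 = true := by decide +kernel

theorem chkAllD4_12 : chkAllD4 12 = true := by decide +kernel

theorem chkAllD4_13 : chkAllD4 13 = true := by decide +kernel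

theorem chkAllD4_14 : chkAllD4 14 = true := by decide +kernel

theorem chkAllD4_15 : chkAllD4 15 = true := by decide +kernel

end Cfsg.Agent.Lib.Helper3.CHO
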