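-- Team project CHO (S1082): integer checks for [EQUIV-D4-r], r = 16..23 (helper3).
import Cfsg.Agent.Lib.Helper3.CHO.EquivEngine

set_option autoImplicit false

namespace Cfsg.Agent.Lib.Helper3.CHO

theorem chkAllD4_16 : chkAllD4 16 = true := by decide +kernel

theorem chkAllD4_17 : chkAllD4 17 = true := by decide +kernel

theorem chkAllD4_18 : chkAllD4 18 = true := by decide +kernel

theorem chkAllD4_19 : chkAllD4 19 = true := by decide +kernel

theorem chkAllD4_20 : chkAllD4 20 = true := by decide +kernel

theorem chkAllD4_21 : chkAllD4 21 = true := by decide +kernel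

theorem chkAllD4_22 : chkAllD4 22 = true := by decide +kernel

theorem chkAllD4_23 : chkAllD4 23 = true := by decide +kernel

end Cfsg.Agent.Lib.Helper3.CHO
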