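-- Team project CHO (S1082): the packages [EQUIV-D4-r], all r < 24 (helper3).
import Cfsg.Agent.Lib.Helper3.CHO.EquivD4c0
import Cfsg.Agent.Lib.Helper3.CHO.EquivD4c1
import Cfsg.Agent.Lib.Helper3.CHO.EquivD4c2

set_option autoImplicit false

namespace Cfsg.Agent.Lib.Helper3.CHO

open Cfsg.Agent.Lib.Helper99.CHO

universe u

/-- [EQUIV-D4-r] for every root index `r < 24`. -/
theorem pkgEquivD4 : ∀ r : ℕ, r < 24 → PkgEquivD4At.{u} r := by
  intro r hr
  interval_cases r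
  · exact pkgEquivD4At_of_chk 0 chkAllD4_0
  · exact pkgEquivD4At_of_chk 1 chkAllD4_1
  · exact pkgEquivD4At_of_chk 2 chkAllD4_2
  · exact pkgEquivD4At_of_chk 3 chkAllD4_3
  · exact pkgEquivD4At_of_chk 4 chkAllD4_4
  · exact pkgEquivD4At_of_chk 5 chkAllD4_5
  · exact pkgEquivD4At_of_chk 6 chkAllD4_6
  · exact pkgEquivD4At_of_chk 7 chkAllD4_7
  · exact pkgEquivD4At_of_chk 8 chkAllD4_8
  · exact pkgEquivD4At_of_chk 9 chkAllD4_9
  · exact pkgEquivD4At_of_chk 10 chkAllD4_10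
  · exact pkgEquivD4At_of_chk 11 chkAllD4_11
  · exact pkgEquivD4At_of_chk 12 chkAllD4_12
  · exact pkgEquivD4At_of_chk 13 chkAllD4_13
  · exact pkgEquivD4At_of_chk 14 chkAllD4_14
  · exact pkgEquivD4At_of_chk 15 chkAllD4_15
  · exact pkgEquivD4At_of_chk 16 chkAllD4_16
  · exact pkgEquivD4At_of_chk 17 chkAllD4_17
  · exact pkgEquivD4At_of_chk 18 chkAllD4_18
  · exact pkgEquivD4At_of_chk 19 chkAllD4_19
  · exact pkgEquivD4At_of_chk 20 chkAllD4_20
  · exact pkgEquivD4At_of_chk 21 chkAllD4_21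
  · exact pkgEquivD4At_of_chk 22 chkAllD4_22
  · exact pkgEquivD4At_of_chk 23 chkAllD4_23

end Cfsg.Agent.Lib.Helper3.CHO
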